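import Cfsg.Agent.H539.OF.Base
import Cfsg.Agent.H743.GG.LV

/-!
# S4884, the row `²F₄(Q)` (helper743): the geometry of the parabolic subgroups

* `NN S` : the dihedral elements; `bruhat_uniq`;
* `Par_cases`, `LL i`, `HL i : LV (Par S i) (LL S i) (Vr S i)`, `HB : LV (BB S) S.T (UU S)`;
* `repB`, `repL i` : representatives of the double cosets which are not killed;
* `act_same`, `act_other`, `act_B` : the action of dihedral elements on the simple root groups.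
-/

set_option autoImplicit false
set_option linter.unusedSectionVars false

namespace Cfsg.Agent.H743.OF

open Cfsg Cfsg.Agent.SplitTwo Cfsg.Agent.SplitTwo.ZS Cfsg.Agent.TitsThree.RankTwoZ Cfsg.Agent.KFacts.TwF4
open Cfsg.Agent.KFacts.TwF4.Full Cfsg.Agent.KFacts.TwF4.SylU Cfsg.Agent.KFacts.TwF4.Inv Cfsg.Agent.KFacts.TwF4.Arc
open Cfsg.Agent.SplitTwo.RootSysZ Subgroup Cfsg.Agent.H539.OF Cfsg.Agent.H743.GG.LVs

universe u

variable {F : Type*} [Field F] [Finite F] {σ : F →+* F} {G : Type u} [Group G] (S : Full σ G)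

/-! ### actions on the root groups -/

/-- `w` acts as `j ↦ c + ε j` -/
def Act (ε c : ℤ) (w : G) : Prop := ∀ j x, x ∈ S.XZ j ↔ w * x * w⁻¹ ∈ S.XZ (c + ε * j)

variable {S}

theorem XZ_mod {a b : ℤ} (h : (16 : ℤ) ∣ a - b) : S.XZ a = S.XZ b := by
  show S.R.X _ = S.R.X _
  congr 1
  rw [ZMod.intCast_eq_intCast_iff_dvd_sub]
  push_cast
  omega

theorem Act.mod {ε c c' : ℤ} {w : G} (h : Act S ε c w) (hc : (16 : ℤ) ∣ c - c') : Act S ε c' w := by
  intro j x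
  rw [h j x, XZ_mod (S := S) (a := c + ε * j) (b := c' + ε * j) (by
    have e : c + ε * j - (c' + ε * j) = c - c' := by ring
    rw [e]; exact hc)]

theorem Act.mul {ε ε' c c' : ℤ} {w w' : G} (h : Act S ε c w) (h' : Act S ε' c' w') :
    Act S (ε * ε') (c + ε * c') (w * w') := by
  intro j x
  rw [h' j x, h _ _]
  have e1 : w * (w' * x * w'⁻¹) * w⁻¹ = w * w' * x * (w * w')⁻¹ := by group
  have e2 : c + ε * (c' + ε' * j) = c + ε * c' + ε * ε' * j := by ring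
  rw [e1, e2]

theorem Act.inv {ε c : ℤ} {w : G} (hε : ε = 1 ∨ ε = -1) (h : Act S ε c w) : Act S ε (-(ε * c)) w⁻¹ := by
  intro j x
  have hε2 : ε * ε = 1 := by rcases hε with h | h <;> rw [h] <;> norm_num
  rw [h (-(ε * c) + ε * j) (w⁻¹ * x * w⁻¹⁻¹)]
  have e1 : w * (w⁻¹ * x * w⁻¹⁻¹) * w⁻¹ = x := by group
  have e2 : c + ε * (-(ε * c) + ε * j) = j := by
    have : c + ε * (-(ε * c) + ε * j) = c - (ε * ε) * c + (ε * ε) * j := by ring
    rw [this, hε2]; ring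
  rw [e1, e2]

theorem Act.one : Act S 1 0 (1 : G) := by
  intro j x
  rw [one_mul, inv_one, mul_one, one_mul, zero_add]

theorem Act.memX {ε c : ℤ} {w : G} (h : Act S ε c w) {j k : ℤ} {x : G} (hx : x ∈ S.XZ j) (hk : k = c + ε * j) :
    w * x * w⁻¹ ∈ S.XZ k := by
  rw [hk]; exact (h j x).1 hx

theorem Act.memJ1 {c : ℤ} {w : G} (h : Act S 1 c w) {a b a' b' : ℤ} {x : G} (hx : x ∈ J S.XZ a b)
    (ha : a' ≤ c + a) (hb : c + b ≤ b') : w * x * w⁻¹ ∈ J S.XZ a' b' := by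
  have : J S.XZ a b ≤ (J S.XZ a' b').comap (MulAut.conj w).toMonoidHom :=
    J_le fun k h1 h2 y hy => ZS.mem_J (h.memX hy rfl) (by omega) (by omega)
  exact this hx

theorem Act.memJ2 {c : ℤ} {w : G} (h : Act S (-1) c w) {a b a' b' : ℤ} {x : G} (hx : x ∈ J S.XZ a b)
    (ha : a' ≤ c - b) (hb : c - a ≤ b') : w * x * w⁻¹ ∈ J S.XZ a' b' := by
  have : J S.XZ a b ≤ (J S.XZ a' b').comap (MulAut.conj w).toMonoidHom :=
    J_le fun k h1 h2 y hy => ZS.mem_J (h.memX hy rfl) (by omega) (by omega)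
  exact this hx

theorem Act.of_rtn {c : ℤ} {w : G} (h : Rtn S c w) : Act S 1 c w := by
  intro j x
  rw [h j x, one_mul, add_comm]

theorem Act.of_refl {c : ℤ} {w : G} (h : Refl S.XZ c w) : Act S (-1) c w := by
  intro j x
  rw [h j x]
  have : c + -1 * j = c - j := by ring
  rw [this]

theorem mem_T_iff {w : G} : w ∈ S.T ↔ Act S 1 0 w := by
  constructor
  · intro h
    refine Act.of_rtn fun j x => ?_
    rw [add_zero]
    exact (h _ _).symm
  · intro h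
    refine mem_T_of_rtn S fun j x => ?_
    rw [h j x, one_mul, add_comm]

variable (S)

/-- the dihedral elements -/
def NN : Subgroup G where
  carrier := {w | ∃ ε c : ℤ, (ε = 1 ∨ ε = -1) ∧ Act S ε (2 * c) w}
  one_mem' := ⟨1, 0, Or.inl rfl, Act.one⟩
  mul_mem' := by
    rintro w w' ⟨ε, c, hε, h⟩ ⟨ε', c', hε', h'⟩
    refine ⟨ε * ε', c + ε * c', ?_, ?_⟩
    · rcases hε with rfl | rfl <;> rcases hε' with rfl | rfl <;> norm_num
    · have := h.mul h'
      have e : 2 * c + ε * (2 * c') = 2 * (c + ε * c') := by ring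
      rwa [e] at this
  inv_mem' := by
    rintro w ⟨ε, c, hε, h⟩
    refine ⟨ε, -(ε * c), hε, ?_⟩
    have := h.inv hε
    have e : -(ε * (2 * c)) = 2 * -(ε * c) := by ring
    rwa [e] at this

variable {S}

theorem mem_NN {w : G} : w ∈ NN S ↔ ∃ ε c : ℤ, (ε = 1 ∨ ε = -1) ∧ Act S ε (2 * c) w := Iff.rfl

theorem NN_cases {w : G} (hw : w ∈ NN S) : ∃ c : ℤ, 0 ≤ c ∧ c < 8 ∧ (Act S 1 (2 * c) w ∨ Act S (-1) (2 * c) w) := by
  obtain ⟨ε, c, hε, h⟩ := hw
  refine ⟨c % 8, Int.emod_nonneg _ (by norm_num), Int.emod_lt_of_pos _ (by norm_num), ?_⟩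
  have h' : Act S ε (2 * (c % 8)) w := h.mod (by omega)
  rcases hε with rfl | rfl
  · exact Or.inl h'
  · exact Or.inr h'

theorem NN_of_dih {w : G} (hw : S.IsDihE w) : w ∈ NN S := by
  obtain ⟨c, -, -, h | h⟩ := dih_cases S hw
  · exact ⟨1, c, Or.inl rfl, Act.of_rtn h⟩
  · exact ⟨-1, c, Or.inr rfl, Act.of_refl h⟩

theorem T_le_NN : S.T ≤ NN S := fun _ ht => ⟨1, 0, Or.inl rfl, by simpa using mem_T_iff.1 ht⟩

theorem NN_norm_T {w t : G} (hw : w ∈ NN S) (ht : t ∈ S.T) : w * t * w⁻¹ ∈ S.T := by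
  obtain ⟨ε, c, hε, h⟩ := hw
  rw [mem_T_iff] at ht ⊢
  have h1 := (h.mul ht).mul (h.inv hε)
  have e : ε * 1 * ε = 1 := by rcases hε with rfl | rfl <;> norm_num
  rw [e] at h1
  refine h1.mod ?_
  have e2 : 2 * c + ε * 0 + ε * 1 * -(ε * (2 * c)) - 0 = 2 * c - (ε * 1 * ε) * (2 * c) := by ring
  rw [e2, e]
  norm_num

theorem NN_norm_T' {w t : G} (hw : w ∈ NN S) (ht : t ∈ S.T) : w⁻¹ * t * w ∈ S.T := by
  have := NN_norm_T (inv_mem hw) ht
  rwa [inv_inv] at this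

variable (S)

/-- the opposite unipotent subgroup -/
abbrev Um : Subgroup G := J S.XZ 9 16

variable {S}

theorem J_Um {a b : ℤ} (h1 : -7 ≤ a) (h2 : b ≤ 0) {x : G} (hx : x ∈ J S.XZ a b) : x ∈ Um S := by
  have h3 := J_per S a b
  rw [← h3] at hx
  exact J_mono (by omega) (by omega) hx

theorem J_UU {a b : ℤ} (h1 : 17 ≤ a) (h2 : b ≤ 24) {x : G} (hx : x ∈ J S.XZ a b) : x ∈ UU S := by
  have h3 := J_per S (a - 16) (b - 16)
  rw [sub_add_cancel, sub_add_cancel] at h3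
  rw [h3] at hx
  exact J_mono (by omega) (by omega) hx

/-- `U = (U ∩ U⁻^w) (U ∩ U^w)` -/
theorem UU_dec {w : G} (hw : w ∈ NN S) {x : G} (hx : x ∈ UU S) : ∃ y ∈ UU S, ∃ z ∈ UU S, w * y * w⁻¹ ∈ Um S ∧
    w * z * w⁻¹ ∈ UU S ∧ x = y * z := by
  obtain ⟨c, h0, h8, h | h⟩ := NN_cases hw
  · rcases le_or_gt c 4 with hc | hc
    · obtain ⟨q, hq, p, hp, e⟩ := S.zsys8.split' (a := 1) (b := 8) (c := 9 - 2 * c) (by omega) (by omega) (by norm_num) hx
      exact ⟨q, J_mono (by omega) le_rfl hq, p, J_mono le_rfl (by omega) hp, h.memJ1 hq (by omega) (by omega),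
        h.memJ1 hp (by omega) (by omega), e⟩
    · obtain ⟨p, hp, q, hq, e⟩ := S.zsys8.split (a := 1) (b := 8) (c := 17 - 2 * c) (by omega) (by omega) (by norm_num) hx
      exact ⟨p, J_mono le_rfl (by omega) hp, q, J_mono (by omega) le_rfl hq, h.memJ1 hp (by omega) (by omega),
        J_UU (a := 17) (b := 2 * c + 8) le_rfl (by omega) (h.memJ1 hq (by omega) (by omega)), e⟩
  · rcases eq_or_lt_of_le h0 with h0' | h0'
    · obtain ⟨p, hp, q, hq, e⟩ := S.zsys8.split (a := 1) (b := 8) (c := 8) (by omega) (by omega) (by norm_num) hx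
      refine ⟨p, J_mono le_rfl (by omega) hp, q, J_mono (by omega) le_rfl hq, ?_, ?_, e⟩
      · exact J_Um (a := -7) (b := -1) (by omega) (by omega) (h.memJ2 hp (by omega) (by omega))
      · have h1 : w * q * w⁻¹ ∈ J S.XZ (-8) (-8) := h.memJ2 hq (by omega) (by omega)
        have h2 := J_per S (-8) (-8)
        rw [← h2] at h1
        exact J_mono (by norm_num) (by norm_num) h1
    rcases le_or_gt c 4 with hc | hc
    · obtain ⟨q, hq, p, hp, e⟩ := S.zsys8.split' (a := 1) (b := 8) (c := 2 * c) (by omega) (by omega) (by norm_num) hx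
      exact ⟨q, J_mono (by omega) le_rfl hq, p, J_mono le_rfl (by omega) hp,
        J_Um (a := 2 * c - 8) (b := 0) (by omega) (by omega) (h.memJ2 hq (by omega) (by omega)),
        h.memJ2 hp (by omega) (by omega), e⟩
    · obtain ⟨p, hp, q, hq, e⟩ := S.zsys8.split (a := 1) (b := 8) (c := 2 * c - 8) (by omega) (by omega) (by norm_num) hx
      exact ⟨p, J_mono le_rfl (by omega) hp, q, J_mono (by omega) le_rfl hq, h.memJ2 hp (by omega) (by omega),
        h.memJ2 hq (by omega) (by omega), e⟩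

/-- some positive root becomes negative -/
theorem exists_neg {w : G} (hw : w ∈ NN S) (hT : w ∉ S.T) : ∃ k : ℤ, 1 ≤ k ∧ k ≤ 8 ∧
    ∀ x ∈ S.XZ k, w * x * w⁻¹ ∈ Um S := by
  obtain ⟨c, h0, h8, h | h⟩ := NN_cases hw
  · have hc0 : c ≠ 0 := by
      rintro rfl
      exact hT (mem_T_iff.2 (by simpa using h))
    rcases le_or_gt c 4 with hc | hc
    · refine ⟨8, by norm_num, le_rfl, fun x hx => ?_⟩
      exact ZS.mem_J (h.memX hx rfl) (by omega) (by omega)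
    · refine ⟨1, le_rfl, by norm_num, fun x hx => ?_⟩
      exact ZS.mem_J (h.memX hx rfl) (by omega) (by omega)
  · rcases eq_or_lt_of_le h0 with h0' | h0'
    · refine ⟨1, le_rfl, by norm_num, fun x hx => ?_⟩
      exact J_Um (a := -1) (b := -1) (by norm_num) (by norm_num) (ZS.mem_J (h.memX hx rfl) (by omega) (by omega))
    rcases le_or_gt c 4 with hc | hc
    · refine ⟨8, by norm_num, le_rfl, fun x hx => ?_⟩
      exact J_Um (a := 2 * c - 8) (b := 2 * c - 8) (by omega) (by omega)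
        (ZS.mem_J (h.memX hx rfl) (by omega) (by omega))
    · refine ⟨1, le_rfl, by norm_num, fun x hx => ?_⟩
      exact ZS.mem_J (h.memX hx rfl) (by omega) (by omega)

theorem BB_mul_form {b : G} (hb : b ∈ BB S) {x : G} (hx : x ∈ UU S) : b * x * b⁻¹ ∈ UU S := BB_norm S hb hx

section

variable (hF : ∃ c : Fˣ, c ≠ 1)

include hF in
/-- **uniqueness in the Bruhat decomposition** -/
theorem bruhat_uniq {w w' b b' : G} (hw : w ∈ NN S) (hw' : w' ∈ NN S) (hb : b ∈ BB S) (hb' : b' ∈ BB S)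
    (e : w' = b * w * b') : w⁻¹ * w' ∈ S.T := by
  by_contra hT
  obtain ⟨k, h1, h8, hk⟩ := exists_neg (mul_mem (inv_mem hw) hw') hT
  obtain ⟨x, hx, hx1⟩ := S.zsys8.exists_ne k
  obtain ⟨u, hu, t, ht, rfl⟩ := mem_BB S hb
  obtain ⟨y, hy, z, hz, hy', hz', rfl⟩ := UU_dec (inv_mem hw) hu
  rw [inv_inv] at hy' hz'
  have hb2 : (w⁻¹ * z * w) * ((w⁻¹ * t * w) * b') ∈ BB S :=
    mul_mem (U_le_BB S hz') (mul_mem (T_le_BB S (NN_norm_T' hw ht)) hb')
  have h3 : ((w⁻¹ * z * w) * ((w⁻¹ * t * w) * b')) * x * ((w⁻¹ * z * w) * ((w⁻¹ * t * w) * b'))⁻¹ ∈ UU S :=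
    BB_norm S hb2 (ZS.mem_J hx h1 h8)
  have h4 : ((w⁻¹ * z * w) * ((w⁻¹ * t * w) * b')) * x * ((w⁻¹ * z * w) * ((w⁻¹ * t * w) * b'))⁻¹ ∈ Um S := by
    have h5 := hk x hx
    have e2 : ((w⁻¹ * z * w) * ((w⁻¹ * t * w) * b')) * x * ((w⁻¹ * z * w) * ((w⁻¹ * t * w) * b'))⁻¹ =
        (w⁻¹ * y * w)⁻¹ * (w⁻¹ * w' * x * (w⁻¹ * w')⁻¹) * (w⁻¹ * y * w) := by rw [e]; group
    rw [e2]
    exact mul_mem (mul_mem (inv_mem hy') h5) hy'
  have h5 := U_inf_opp S hF h3 h4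
  exact hx1 (conj_eq_one_iff.1 h5)

end

/-! ### the simple roots -/

variable (S)

/-- the reflection constants -/
def rr (i : Fin 2) : ℤ := ![10, 8] i

/-- the ends of the unipotent radicals -/
def va (i : Fin 2) : ℤ := ![2, 1] i
def vb (i : Fin 2) : ℤ := ![8, 7] i

theorem Vr_eq (i : Fin 2) : Vr S i = J S.XZ (va i) (vb i) := by
  fin_cases i <;> rfl

theorem consts (i : Fin 2) : (va i = 2 ∧ vb i = 8 ∧ kk i = 1 ∧ ko i = 9 ∧ rr i = 10) ∨
    (va i = 1 ∧ vb i = 7 ∧ kk i = 8 ∧ ko i = 0 ∧ rr i = 8) := by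
  fin_cases i
  · exact Or.inl ⟨rfl, rfl, rfl, rfl, rfl⟩
  · exact Or.inr ⟨rfl, rfl, rfl, rfl, rfl⟩

theorem nn_act (i : Fin 2) : Act S (-1) (rr i) (nn S i) := by
  fin_cases i
  · exact Act.of_refl S.n1_refl
  · exact Act.of_refl S.n2_refl

variable {S}

theorem nn_NN (i : Fin 2) : nn S i ∈ NN S := by
  fin_cases i
  · exact ⟨-1, 5, Or.inr rfl, nn_act S 0⟩
  · exact ⟨-1, 4, Or.inr rfl, nn_act S 1⟩

theorem nn_conj_Xs (i : Fin 2) {x : G} (hx : x ∈ Xs S i) : nn S i * x * (nn S i)⁻¹ ∈ Xo S i :=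
  (nn_act S i).memX hx (by rcases consts i with ⟨-, -, h1, h2, h3⟩ | ⟨-, -, h1, h2, h3⟩ <;> rw [h1, h2, h3] <;> norm_num)

theorem nn_conj_Xo (i : Fin 2) {x : G} (hx : x ∈ Xo S i) : nn S i * x * (nn S i)⁻¹ ∈ Xs S i :=
  (nn_act S i).memX hx (by rcases consts i with ⟨-, -, h1, h2, h3⟩ | ⟨-, -, h1, h2, h3⟩ <;> rw [h1, h2, h3] <;> norm_num)

theorem nn_sq (i : Fin 2) : nn S i * nn S i ∈ S.T := by
  rw [mem_T_iff]
  have := (nn_act S i).mul (nn_act S i)
  norm_num at this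
  exact this

theorem nn_conj_Xs' (i : Fin 2) {x : G} (hx : x ∈ Xs S i) : (nn S i)⁻¹ * x * nn S i ∈ Xo S i := by
  have h1 := nn_conj_Xs i (x := (nn S i * nn S i)⁻¹ * x * (nn S i * nn S i)) (S.T_conj' (nn_sq i) _ hx)
  have e : nn S i * ((nn S i * nn S i)⁻¹ * x * (nn S i * nn S i)) * (nn S i)⁻¹ = (nn S i)⁻¹ * x * nn S i := by group
  rwa [e] at h1

theorem nn_conj_Vr (i : Fin 2) {x : G} (hx : x ∈ Vr S i) : nn S i * x * (nn S i)⁻¹ ∈ Vr S i := by
  rw [Vr_eq] at hx ⊢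
  exact (nn_act S i).memJ2 hx
    (by rcases consts i with ⟨h4, h5, h1, h2, h3⟩ | ⟨h4, h5, h1, h2, h3⟩ <;> rw [h4, h5, h3] <;> norm_num)
    (by rcases consts i with ⟨h4, h5, h1, h2, h3⟩ | ⟨h4, h5, h1, h2, h3⟩ <;> rw [h4, h5, h3] <;> norm_num)

theorem T_conj_Vr (i : Fin 2) {t x : G} (ht : t ∈ S.T) (hx : x ∈ Vr S i) : t * x * t⁻¹ ∈ Vr S i := by
  rw [Vr_eq] at hx ⊢
  exact S.T_conj_J ht hx

theorem UU_split (i : Fin 2) {u : G} (hu : u ∈ UU S) : ∃ x ∈ Xs S i, ∃ v ∈ Vr S i, u = x * v := by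
  fin_cases i
  · exact S.zsys8.split_ll (a := 1) (b := 8) (by norm_num) (by norm_num) hu
  · exact S.zsys8.split_rl (a := 1) (b := 8) (by norm_num) (by norm_num) hu

/-- rank one -/
theorem rank_one (i : Fin 2) {x : G} (hx : x ∈ Xo S i) (hx1 : x ≠ 1) : ∃ a ∈ Xs S i, ∃ t ∈ S.T, ∃ b ∈ Xs S i,
    x = a * (t * nn S i) * b := by
  have key : ∀ (j k : ℤ), (16 : ℤ) ∣ j - ko i → (16 : ℤ) ∣ (j - 8) - kk i → (16 : ℤ) ∣ (2 * j - 8) - rr i →
      ∃ a ∈ Xs S i, ∃ t ∈ S.T, ∃ b ∈ Xs S i, x = a * (t * nn S i) * b := by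
    intro j _ h1 h2 h3
    have hx' : x ∈ S.XZ j := by rw [XZ_mod h1]; exact hx
    obtain ⟨v, hv, v', hv', hr⟩ := S.zsys8.mu j x hx' hx1
    rw [XZ_mod h2] at hv hv'
    have h4 : v * x * v' * (nn S i)⁻¹ ∈ S.T := by
      rw [mem_T_iff]
      have h5 := (Act.of_refl hr).mul ((nn_act S i).inv (Or.inr rfl))
      have e : (-1 : ℤ) * -1 = 1 := by norm_num
      rw [e] at h5
      refine h5.mod ?_
      have e2 : 2 * j - 8 + -1 * -(-1 * rr i) - 0 = 2 * j - 8 - rr i := by ring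
      rw [e2]; exact h3
    exact ⟨v⁻¹, inv_mem hv, _, h4, v'⁻¹, inv_mem hv', by group⟩
  rcases consts i with ⟨-, -, h1, h2, h3⟩ | ⟨-, -, h1, h2, h3⟩
  · exact key 9 0 (by rw [h2]; norm_num) (by rw [h1]; norm_num) (by rw [h3]; norm_num)
  · exact key 0 0 (by rw [h2]; norm_num) (by rw [h1]; norm_num) (by rw [h3]; norm_num)

/-- a group with a (B,N)-pair of rank one -/
theorem exists_rank_one {B : Subgroup G} {n : G} (hn : n * n ∈ B)
    (h : ∀ b ∈ B, n * b * n⁻¹ ∈ B ∨ ∃ c ∈ B, ∃ d ∈ B, n * b * n⁻¹ = c * n * d) :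
    ∃ K : Subgroup G, ∀ g, g ∈ K ↔ g ∈ B ∨ ∃ c ∈ B, ∃ d ∈ B, g = c * n * d := by
  refine ⟨{ carrier := {g | g ∈ B ∨ ∃ c ∈ B, ∃ d ∈ B, g = c * n * d}
            one_mem' := Or.inl (one_mem _)
            mul_mem' := ?_
            inv_mem' := ?_ }, fun g => Iff.rfl⟩
  · rintro g g' (hg | ⟨c, hc, d, hd, rfl⟩) (hg' | ⟨c', hc', d', hd', rfl⟩)
    · exact Or.inl (mul_mem hg hg')
    · exact Or.inr ⟨g * c', mul_mem hg hc', d', hd', by group⟩
    · exact Or.inr ⟨c, hc, d * g', mul_mem hd hg', by group⟩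
    · have e : c * n * d * (c' * n * d') = c * (n * (d * c') * n⁻¹) * (n * n) * d' := by group
      rcases h (d * c') (mul_mem hd hc') with h1 | ⟨p, hp, q, hq, h1⟩
      · left
        show c * n * d * (c' * n * d') ∈ B
        rw [e]
        exact mul_mem (mul_mem (mul_mem hc h1) hn) hd'
      · right
        refine ⟨c * p, mul_mem hc hp, q * (n * n) * d', mul_mem (mul_mem hq hn) hd', ?_⟩
        rw [e, h1]; group
  · rintro g (hg | ⟨c, hc, d, hd, rfl⟩)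
    · exact Or.inl (inv_mem hg)
    · right
      refine ⟨d⁻¹ * (n * n)⁻¹, mul_mem (inv_mem hd) (inv_mem hn), c⁻¹, inv_mem hc, by group⟩

theorem BB_rank_one (i : Fin 2) : ∀ b ∈ BB S, nn S i * b * (nn S i)⁻¹ ∈ BB S ∨
    ∃ c ∈ BB S, ∃ d ∈ BB S, nn S i * b * (nn S i)⁻¹ = c * nn S i * d := by
  intro b hb
  obtain ⟨u, hu, t, ht, rfl⟩ := mem_BB S hb
  obtain ⟨x, hx, v, hv, rfl⟩ := UU_split i hu
  have e : nn S i * (x * v * t) * (nn S i)⁻¹ =
      (nn S i * x * (nn S i)⁻¹) * ((nn S i * v * (nn S i)⁻¹) * (nn S i * t * (nn S i)⁻¹)) := by group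
  have h2 : (nn S i * v * (nn S i)⁻¹) * (nn S i * t * (nn S i)⁻¹) ∈ BB S :=
    mul_mem (U_le_BB S (Vr_le_U S i (nn_conj_Vr i hv))) (T_le_BB S (NN_norm_T (nn_NN i) ht))
  rw [e]
  by_cases h1 : nn S i * x * (nn S i)⁻¹ = 1
  · left
    rw [h1, one_mul]
    exact h2
  · obtain ⟨a, ha, s, hs, c, hc, h3⟩ := rank_one i (nn_conj_Xs i hx) h1
    right
    rw [h3]
    exact ⟨a * s, mul_mem (U_le_BB S (Xs_le_U S i ha)) (T_le_BB S hs), c * _,
      mul_mem (U_le_BB S (Xs_le_U S i hc)) h2, by group⟩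

/-- **the Bruhat decomposition of `Par i`** -/
theorem Par_cases (i : Fin 2) {g : G} (hg : g ∈ Par S i) : g ∈ BB S ∨ ∃ c ∈ BB S, ∃ d ∈ BB S, g = c * nn S i * d := by
  obtain ⟨K, hK⟩ := exists_rank_one (B := BB S) (n := nn S i) (T_le_BB S (nn_sq i)) (BB_rank_one i)
  have hBK : BB S ≤ K := fun b hb => (hK b).2 (Or.inl hb)
  have hXo : Xo S i ≤ K := by
    intro x hx
    by_cases h1 : x = 1
    · rw [h1]; exact one_mem _
    · obtain ⟨a, ha, s, hs, c, hc, h3⟩ := rank_one i hx h1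
      exact (hK x).2 (Or.inr ⟨a * s, mul_mem (U_le_BB S (Xs_le_U S i ha)) (T_le_BB S hs), c,
        U_le_BB S (Xs_le_U S i hc), by rw [h3]; group⟩)
  have hPK : Par S i ≤ K := by
    fin_cases i
    · refine sup_le ((T_le_BB S).trans hBK) (J_le fun k h1 h2 => ?_)
      rcases lt_or_ge k 9 with h3 | h3
      · exact (X_le_J (by omega) (by omega) : S.XZ k ≤ UU S).trans ((U_le_BB S).trans hBK)
      · rw [show k = 9 by omega]; exact hXo
    · refine sup_le ((T_le_BB S).trans hBK) (J_le fun k h1 h2 => ?_)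
      rcases lt_or_ge 0 k with h3 | h3
      · exact (X_le_J (by omega) (by omega) : S.XZ k ≤ UU S).trans ((U_le_BB S).trans hBK)
      · rw [show k = 0 by omega]; exact hXo
  exact (hK g).1 (hPK hg)

/-! ### Levi subgroups -/

variable (S)

/-- the Levi subgroups -/
def LL (i : Fin 2) : Subgroup G := S.T ⊔ (Xs S i ⊔ Xo S i)

variable {S}

theorem T_le_LL (i : Fin 2) : S.T ≤ LL S i := le_sup_left
theorem Xs_le_LL (i : Fin 2) : Xs S i ≤ LL S i := le_sup_left.trans le_sup_right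
theorem Xo_le_LL (i : Fin 2) : Xo S i ≤ LL S i := le_sup_right.trans le_sup_right

theorem LL_le_Par (i : Fin 2) : LL S i ≤ Par S i := sup_le (T_le_Par S i) (sup_le (Xs_le_Par S i) (Xo_le_Par S i))

theorem nn_LL (i : Fin 2) : nn S i ∈ LL S i := by
  obtain ⟨x, hx, hx1⟩ := S.zsys8.exists_ne (ko i)
  obtain ⟨a, ha, t, ht, b, hb, e⟩ := rank_one i (show x ∈ Xo S i from hx) hx1
  have e2 : nn S i = t⁻¹ * (a⁻¹ * x * b⁻¹) := by rw [e]; group
  rw [e2]
  exact mul_mem (inv_mem (T_le_LL i ht)) (mul_mem (mul_mem (inv_mem (Xs_le_LL i ha)) (Xo_le_LL i hx))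
    (inv_mem (Xs_le_LL i hb)))

theorem Par_norm (i : Fin 2) {p v : G} (hp : p ∈ Par S i) (hv : v ∈ Vr S i) : p * v * p⁻¹ ∈ Vr S i := by
  have h1 : Par S i ≤ Subgroup.normalizer (Vr S i : Set G) := by
    have hT : S.T ≤ Subgroup.normalizer (Vr S i : Set G) := by
      intro t ht
      rw [Subgroup.mem_normalizer_iff]
      intro v
      refine ⟨fun hv => T_conj_Vr i ht hv, fun hv => ?_⟩
      have := T_conj_Vr i (inv_mem ht) hv
      have e : t⁻¹ * (t * v * t⁻¹) * t⁻¹⁻¹ = v := by group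
      rwa [e] at this
    fin_cases i
    · exact sup_le hT (S.zsys8.le_normalizer (a := 2) (b := 8) (by norm_num))
    · exact sup_le hT (S.zsys8.le_normalizer (a := 1) (b := 7) (by norm_num))
  exact (Subgroup.mem_normalizer_iff.1 (h1 hp) v).1 hv

theorem LL_sup (i : Fin 2) : Par S i ≤ LL S i ⊔ Vr S i := by
  fin_cases i
  · refine sup_le ((T_le_LL 0).trans le_sup_left) (J_le fun k h1 h2 => ?_)
    rcases lt_or_ge k 9 with h3 | h3
    · rcases lt_or_ge 1 k with h4 | h4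
      · exact (X_le_J (by omega) (by omega) : S.XZ k ≤ J S.XZ 2 8).trans le_sup_right
      · rw [show k = 1 by omega]; exact (Xs_le_LL 0).trans le_sup_left
    · rw [show k = 9 by omega]; exact (Xo_le_LL 0).trans le_sup_left
  · refine sup_le ((T_le_LL 1).trans le_sup_left) (J_le fun k h1 h2 => ?_)
    rcases lt_or_ge 0 k with h3 | h3
    · rcases lt_or_ge k 8 with h4 | h4
      · exact (X_le_J (by omega) (by omega) : S.XZ k ≤ J S.XZ 1 7).trans le_sup_right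
      · rw [show k = 8 by omega]; exact (Xs_le_LL 1).trans le_sup_left
    · rw [show k = 0 by omega]; exact (Xo_le_LL 1).trans le_sup_left

theorem Xs_inf_Vr (i : Fin 2) {x : G} (hx : x ∈ Xs S i) (hx' : x ∈ Vr S i) : x = 1 := by
  fin_cases i
  · exact S.zsys8.inter 1 x hx hx'
  · exact S.zsys8.inter' (k := 8) hx hx'

section

variable (hF : ∃ c : Fˣ, c ≠ 1)

include hF in
theorem nn_notMem (i : Fin 2) : nn S i ∉ BB S := by
  intro h
  obtain ⟨x, hx, hx1⟩ := S.zsys8.exists_ne (kk i)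
  have h1 := BB_norm S h (Xs_le_U S i hx)
  have h2 : nn S i * x * (nn S i)⁻¹ ∈ Um S := by
    have h3 := nn_conj_Xs i hx
    rcases consts i with ⟨-, -, -, h4, -⟩ | ⟨-, -, -, h4, -⟩
    · have h3' : nn S i * x * (nn S i)⁻¹ ∈ S.XZ (ko i) := h3
      rw [h4] at h3'
      exact ZS.mem_J h3' (by norm_num) (by norm_num)
    · have h3' : nn S i * x * (nn S i)⁻¹ ∈ S.XZ (ko i) := h3
      rw [h4] at h3'
      exact J_Um (a := 0) (b := 0) (by norm_num) (by norm_num) (ZS.mem_J h3' le_rfl le_rfl)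
  exact hx1 (conj_eq_one_iff.1 (U_inf_opp S hF h1 h2))

theorem B1_form (i : Fin 2) {b : G} (hb : b ∈ S.T ⊔ Xs S i) : ∃ t ∈ S.T, ∃ x ∈ Xs S i, b = t * x :=
  mem_sup_of_norm (fun _ ht _ hx => S.T_conj ht _ hx) hb

/-- the Bruhat decomposition of `LL i` -/
theorem LL_cases (i : Fin 2) {g : G} (hg : g ∈ LL S i) : g ∈ S.T ⊔ Xs S i ∨
    ∃ c ∈ S.T ⊔ Xs S i, ∃ d ∈ S.T ⊔ Xs S i, g = c * nn S i * d := by
  have hT : S.T ≤ S.T ⊔ Xs S i := le_sup_left
  have hX : Xs S i ≤ S.T ⊔ Xs S i := le_sup_right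
  obtain ⟨K, hK⟩ := exists_rank_one (B := S.T ⊔ Xs S i) (n := nn S i) (hT (nn_sq i)) (by
    intro b hb
    obtain ⟨t, ht, x, hx, rfl⟩ := B1_form i hb
    have e : nn S i * (t * x) * (nn S i)⁻¹ = (nn S i * t * (nn S i)⁻¹) * (nn S i * x * (nn S i)⁻¹) := by group
    have h2 := hT (NN_norm_T (nn_NN i) ht)
    rw [e]
    by_cases h1 : nn S i * x * (nn S i)⁻¹ = 1
    · left
      rw [h1, mul_one]
      exact h2
    · obtain ⟨a, ha, s, hs, c, hc, h3⟩ := rank_one i (nn_conj_Xs i hx) h1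
      right
      rw [h3]
      exact ⟨nn S i * t * (nn S i)⁻¹ * (a * s), mul_mem h2 (mul_mem (hX ha) (hT hs)), c, hX hc, by group⟩)
  have hBK : S.T ⊔ Xs S i ≤ K := fun b hb => (hK b).2 (Or.inl hb)
  have hXo : Xo S i ≤ K := by
    intro x hx
    by_cases h1 : x = 1
    · rw [h1]; exact one_mem _
    · obtain ⟨a, ha, s, hs, c, hc, h3⟩ := rank_one i hx h1
      exact (hK x).2 (Or.inr ⟨a * s, mul_mem (hX ha) (hT hs), c, hX hc, by rw [h3]; group⟩)
  have hLK : LL S i ≤ K := sup_le (hT.trans hBK) (sup_le (hX.trans hBK) hXo)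
  exact (hK g).1 (hLK hg)

include hF in
/-- **`Par i = LL i ⋉ Vr i`** -/
theorem HL (i : Fin 2) : LV (Par S i) (LL S i) (Vr S i) where
  Lle := LL_le_Par i
  Vle := Vr_le_Par S i
  nor := fun _ hp _ hv => Par_norm i hp hv
  inf := by
    have hB1 : S.T ⊔ Xs S i ≤ BB S := sup_le (T_le_BB S) ((Xs_le_U S i).trans (U_le_BB S))
    intro x hx hxV
    rcases LL_cases i hx with h | ⟨c, hc, d, hd, e⟩
    · obtain ⟨t, ht, a, ha, rfl⟩ := B1_form i h
      have h1 : t ∈ UU S := by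
        have e : t = (t * a) * a⁻¹ := by group
        rw [e]
        exact mul_mem (Vr_le_U S i hxV) (inv_mem (Xs_le_U S i ha))
      have h2 := S.U_inf_T ht h1
      rw [h2, one_mul] at hxV ⊢
      exact Xs_inf_Vr i ha hxV
    · exfalso
      apply nn_notMem (S := S) hF i
      have e2 : nn S i = c⁻¹ * x * d⁻¹ := by rw [e]; group
      rw [e2]
      exact mul_mem (mul_mem (inv_mem (hB1 hc)) (U_le_BB S (Vr_le_U S i hxV))) (inv_mem (hB1 hd))
  mul := fun p hp => by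
    obtain ⟨l, hl, v, hv, e⟩ := mem_sup_of_norm
      (fun l hl v hv => Par_norm i (LL_le_Par i hl) hv) (LL_sup i hp)
    exact ⟨l, hl, v, hv, e⟩

theorem HB : LV (BB S) S.T (UU S) where
  Lle := T_le_BB S
  Vle := U_le_BB S
  nor := fun _ hp _ hv => BB_norm S hp hv
  inf := fun _ hx hx' => S.U_inf_T hx hx'
  mul := fun _ hp => mem_BB' S hp

theorem HX (i : Fin 2) : LV (UU S) (Xs S i) (Vr S i) where
  Lle := Xs_le_U S i
  Vle := Vr_le_U S i
  nor := fun _ hp _ hv => Par_norm i (U_le_Par S i hp) hv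
  inf := fun _ hx hx' => Xs_inf_Vr i hx hx'
  mul := fun _ hp => UU_split i hp

include hF in
/-- representatives of `B \ G / B` -/
theorem repB : Rep (BB S) S.T (UU S) (NN S) where
  le := T_le_NN
  nor := fun n hn l hl => NN_norm_T' hn hl
  hV := fun n hn v hv h => by
    obtain ⟨y, hy, z, hz, hy', hz', rfl⟩ := UU_dec (inv_mem hn) hv
    rw [inv_inv] at hy' hz'
    have h1 : n⁻¹ * y * n ∈ BB S := by
      have e : n⁻¹ * y * n = (n⁻¹ * (y * z) * n) * (n⁻¹ * z * n)⁻¹ := by group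
      rw [e]
      exact mul_mem h (inv_mem (U_le_BB S hz'))
    have h2 := BB_inf_opp S hF h1 hy'
    have e : n⁻¹ * (y * z) * n = (n⁻¹ * y * n) * (n⁻¹ * z * n) := by group
    rw [e, h2, one_mul]
    exact hz'
  dis := fun n hn n' hn' h => by
    obtain ⟨a, ha, b, hb, e⟩ := h
    exact bruhat_uniq hF hn hn' ha hb e

theorem Xo_Um (i : Fin 2) {x : G} (hx : x ∈ Xo S i) : x ∈ Um S := by
  have hx' : x ∈ S.XZ (ko i) := hx
  rcases consts i with ⟨-, -, -, h4, -⟩ | ⟨-, -, -, h4, -⟩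
  · rw [h4] at hx'
    exact ZS.mem_J hx' (by norm_num) (by norm_num)
  · rw [h4] at hx'
    exact J_Um (a := 0) (b := 0) (by norm_num) (by norm_num) (ZS.mem_J hx' le_rfl le_rfl)

theorem Xo_inf_opp (i : Fin 2) {x : G} (hx : x ∈ Xo S i) (hx' : x ∈ J S.XZ (va i - 8) (vb i - 8)) : x = 1 := by
  fin_cases i
  · have h1 : x ∈ J S.XZ (-6) 0 := hx'
    have h2 := J_per S (-6) 0
    rw [← h2] at h1
    exact S.zsys8.inter 9 x hx h1
  · exact S.zsys8.inter' (k := 0) hx hx'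

/-! ### the longest element -/

theorem w0_act : Act S 1 8 (w0 S) := by
  intro j x
  have := S.rotk_X 4 j (x := x)
  rw [show j + 2 * 4 = 8 + 1 * j by ring] at this
  exact this.symm

theorem w0_NN : w0 S ∈ NN S := ⟨1, 4, Or.inl rfl, w0_act⟩

theorem w0_sq : w0 S * w0 S ∈ S.T := by
  rw [mem_T_iff]
  have := w0_act.mul (w0_act (S := S))
  rw [one_mul] at this
  exact this.mod (by norm_num)

theorem w0_inv_act : Act S 1 (-8) (w0 S)⁻¹ := by
  have := (w0_act (S := S)).inv (Or.inl rfl)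
  rwa [one_mul] at this

theorem w0_conj_LL (i : Fin 2) {l : G} (hl : l ∈ LL S i) : w0 S * l * (w0 S)⁻¹ ∈ LL S i := by
  have : LL S i ≤ (LL S i).comap (MulAut.conj (w0 S)).toMonoidHom := by
    refine sup_le ?_ (sup_le ?_ ?_)
    · intro t ht
      exact T_le_LL i (NN_norm_T w0_NN ht)
    · intro x hx
      refine Xo_le_LL i ?_
      have h1 := w0_act.memX (S := S) (j := kk i) hx rfl
      have h2 : S.XZ (8 + 1 * kk i) = S.XZ (ko i) := XZ_mod (by
        rcases consts i with ⟨-, -, h1, h2, -⟩ | ⟨-, -, h1, h2, -⟩ <;> rw [h1, h2] <;> norm_num)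
      rw [h2] at h1
      exact h1
    · intro x hx
      refine Xs_le_LL i ?_
      have h1 := w0_act.memX (S := S) (j := ko i) hx rfl
      have h2 : S.XZ (8 + 1 * ko i) = S.XZ (kk i) := XZ_mod (by
        rcases consts i with ⟨-, -, h1, h2, -⟩ | ⟨-, -, h1, h2, -⟩ <;> rw [h1, h2] <;> norm_num)
      rw [h2] at h1
      exact h1
  exact this hl

theorem w0_conj_LL' (i : Fin 2) {l : G} (hl : l ∈ LL S i) : (w0 S)⁻¹ * l * w0 S ∈ LL S i := by
  have h1 : (w0 S * w0 S)⁻¹ * l * (w0 S * w0 S) ∈ LL S i :=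
    mul_mem (mul_mem (inv_mem (T_le_LL i w0_sq)) hl) (T_le_LL i w0_sq)
  have h2 := w0_conj_LL i h1
  have e : w0 S * ((w0 S * w0 S)⁻¹ * l * (w0 S * w0 S)) * (w0 S)⁻¹ = (w0 S)⁻¹ * l * w0 S := by group
  rwa [e] at h2

variable (S)

/-- the normaliser part of `LL i` -/
def NL (i : Fin 2) : Subgroup G where
  carrier := {g | g ∈ LL S i ∨ ∃ l ∈ LL S i, g = l * w0 S}
  one_mem' := Or.inl (one_mem _)
  mul_mem' := by
    rintro g g' (hg | ⟨l, hl, rfl⟩) (hg' | ⟨l', hl', rfl⟩)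
    · exact Or.inl (mul_mem hg hg')
    · exact Or.inr ⟨g * l', mul_mem hg hl', by group⟩
    · refine Or.inr ⟨l * (w0 S * g' * (w0 S)⁻¹), mul_mem hl (w0_conj_LL i hg'), by group⟩
    · refine Or.inl ?_
      have e : l * w0 S * (l' * w0 S) = l * (w0 S * l' * (w0 S)⁻¹) * (w0 S * w0 S) := by group
      rw [e]
      exact mul_mem (mul_mem hl (w0_conj_LL i hl')) (T_le_LL i w0_sq)
  inv_mem' := by
    rintro g (hg | ⟨l, hl, rfl⟩)
    · exact Or.inl (inv_mem hg)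
    · refine Or.inr ⟨(w0 S * w0 S)⁻¹ * (w0 S * l⁻¹ * (w0 S)⁻¹), mul_mem (inv_mem (T_le_LL i w0_sq))
        (w0_conj_LL i (inv_mem hl)), by group⟩

variable {S}

theorem w0_inv_Vr (i : Fin 2) {v : G} (hv : v ∈ Vr S i) : (w0 S)⁻¹ * v * w0 S ∈ J S.XZ (va i - 8) (vb i - 8) := by
  rw [Vr_eq] at hv
  have := w0_inv_act.memJ1 (S := S) hv (a' := va i - 8) (b' := vb i - 8) (by omega) (by omega)
  rwa [inv_inv] at this

include hF in
/-- `Par i ∩ (Vr i)^{w₀} = 1` -/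
theorem Par_inf_opp (i : Fin 2) {p : G} (hp : p ∈ Par S i) (hp' : p ∈ J S.XZ (va i - 8) (vb i - 8)) : p = 1 := by
  have hpm : p ∈ Um S := by
    rcases consts i with ⟨h1, h2, -⟩ | ⟨h1, h2, -⟩
    · rw [h1, h2] at hp'
      exact J_Um (by norm_num) (by norm_num) hp'
    · rw [h1, h2] at hp'
      exact J_Um (by norm_num) (by norm_num) hp'
  rcases Par_cases i hp with h | ⟨c, hc, d, hd, e⟩
  · exact BB_inf_opp S hF h hpm
  · obtain ⟨u, hu, t, ht, e1⟩ := mem_BB S (inv_mem hd)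
    obtain ⟨x, hx, v, hv, rfl⟩ := UU_split i hu
    have e2 : d = t⁻¹ * v⁻¹ * x⁻¹ := by
      rw [← inv_inv d, e1]; group
    -- `p = c' n x'`
    have hc' : c * ((nn S i * t⁻¹ * (nn S i)⁻¹) * (nn S i * v⁻¹ * (nn S i)⁻¹)) ∈ BB S :=
      mul_mem hc (mul_mem (T_le_BB S (NN_norm_T (nn_NN i) (inv_mem ht)))
        (U_le_BB S (Vr_le_U S i (nn_conj_Vr i (inv_mem hv)))))
    obtain ⟨c', hc'', e3⟩ : ∃ c' ∈ BB S, p = c' * (nn S i * x⁻¹) := ⟨_, hc', by rw [e, e2]; group⟩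
    by_cases hx1 : x = 1
    · exfalso
      rw [hx1, inv_one, mul_one] at e3
      have h1 : (w0 S)⁻¹ * p * w0 S ∈ UU S := by
        have := w0_inv_act.memJ1 (S := S) hpm (a' := 1) (b' := 8) (by norm_num) (by norm_num)
        rwa [inv_inv] at this
      have h2 := bruhat_uniq hF (w := (w0 S)⁻¹) (w' := (w0 S)⁻¹ * (nn S i)⁻¹) (b := ((w0 S)⁻¹ * p * w0 S)⁻¹) (b' := c')
        (inv_mem w0_NN) (mul_mem (inv_mem w0_NN) (inv_mem (nn_NN i))) (inv_mem (U_le_BB S h1)) hc'' (by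
          rw [e3]; group)
      rw [inv_mul_cancel_left] at h2
      exact nn_notMem hF i (T_le_BB S (inv_mem_iff.1 h2))
    · have hx' : (nn S i)⁻¹ * x⁻¹ * nn S i ∈ Xo S i := nn_conj_Xs' i (inv_mem hx)
      have hx2 : (nn S i)⁻¹ * x⁻¹ * nn S i ≠ 1 := by
        intro h
        apply hx1
        have e4 : x = (nn S i * ((nn S i)⁻¹ * x⁻¹ * nn S i) * (nn S i)⁻¹)⁻¹ := by group
        rw [e4, h]; group
      obtain ⟨a, ha, s, hs, b, hb, e5⟩ := rank_one i hx' hx2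
      have hb' := nn_conj_Xs i hb
      have e6 : nn S i * x⁻¹ = (nn S i * (nn S i * a * (nn S i)⁻¹) * (nn S i)⁻¹) *
          ((nn S i * nn S i * s * (nn S i * nn S i)⁻¹) * (nn S i * nn S i)) * (nn S i * b * (nn S i)⁻¹) := by
        have e7 : x⁻¹ = nn S i * (a * (s * nn S i) * b) * (nn S i)⁻¹ := by rw [← e5]; group
        rw [e7]; group
      have h1 : c' * ((nn S i * (nn S i * a * (nn S i)⁻¹) * (nn S i)⁻¹) *
          ((nn S i * nn S i * s * (nn S i * nn S i)⁻¹) * (nn S i * nn S i))) ∈ BB S := by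
        refine mul_mem hc'' (mul_mem (U_le_BB S (Xs_le_U S i (nn_conj_Xo i (nn_conj_Xs i ha)))) (T_le_BB S ?_))
        exact mul_mem (mul_mem (mul_mem (nn_sq i) hs) (inv_mem (nn_sq i))) (nn_sq i)
      have h2 : c' * ((nn S i * (nn S i * a * (nn S i)⁻¹) * (nn S i)⁻¹) *
          ((nn S i * nn S i * s * (nn S i * nn S i)⁻¹) * (nn S i * nn S i))) = p * (nn S i * b * (nn S i)⁻¹)⁻¹ := by
        rw [e3, e6]; group
      have hbm : nn S i * b * (nn S i)⁻¹ ∈ Um S := Xo_Um i hb'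
      have h3 := BB_inf_opp S hF h1 (by rw [h2]; exact mul_mem hpm (inv_mem hbm))
      rw [h2] at h3
      have h4 : p = nn S i * b * (nn S i)⁻¹ := mul_inv_eq_one.1 h3
      rw [← h4] at hb'
      exact Xo_inf_opp i hb' hp'

include hF in
/-- representatives of the double cosets of `Par i` which are not killed -/
theorem repL (i : Fin 2) : Rep (Par S i) (LL S i) (Vr S i) (NL S i) where
  le := fun _ hl => Or.inl hl
  nor := by
    rintro n (hn | ⟨l', hl', rfl⟩) l hl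
    · exact mul_mem (mul_mem (inv_mem hn) hl) hn
    · have e : (l' * w0 S)⁻¹ * l * (l' * w0 S) = (w0 S)⁻¹ * (l'⁻¹ * l * l') * w0 S := by group
      rw [e]
      exact w0_conj_LL' i (mul_mem (mul_mem (inv_mem hl') hl) hl')
  hV := by
    rintro n (hn | ⟨l', hl', rfl⟩) v hv h
    · have := Par_norm i (LL_le_Par i (inv_mem hn)) hv
      rwa [inv_inv] at this
    · have e : (l' * w0 S)⁻¹ * v * (l' * w0 S) = (w0 S)⁻¹ * (l'⁻¹ * v * l') * w0 S := by group
      have h1 : l'⁻¹ * v * l' ∈ Vr S i := by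
        have := Par_norm i (LL_le_Par i (inv_mem hl')) hv
        rwa [inv_inv] at this
      have h2 := w0_inv_Vr i h1
      rw [e] at h ⊢
      rw [Par_inf_opp hF i h h2]
      exact one_mem _
  dis := by
    have hw0 : w0 S ∉ Par S i := by
      intro h
      obtain ⟨x, hx, hx1⟩ := S.zsys8.exists_ne (va i)
      have hxV : x ∈ Vr S i := by
        rw [Vr_eq]
        exact ZS.mem_J hx le_rfl (by rcases consts i with ⟨h1, h2, -⟩ | ⟨h1, h2, -⟩ <;> rw [h1, h2] <;> norm_num)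
      have h1 := Par_norm i h hxV
      have h2 := w0_act.memX (S := S) (j := va i) hx rfl
      have h3 : w0 S * x * (w0 S)⁻¹ ∈ Um S := ZS.mem_J h2
        (by rcases consts i with ⟨h1, h2, -⟩ | ⟨h1, h2, -⟩ <;> rw [h1] <;> norm_num)
        (by rcases consts i with ⟨h1, h2, -⟩ | ⟨h1, h2, -⟩ <;> rw [h1] <;> norm_num)
      exact hx1 (conj_eq_one_iff.1 (U_inf_opp S hF (Vr_le_U S i h1) h3))
    rintro n (hn | ⟨l, hl, rfl⟩) n' (hn' | ⟨l', hl', rfl⟩) ⟨a, ha, b, hb, e⟩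
    · exact mul_mem (inv_mem hn) hn'
    · exfalso
      apply hw0
      have e2 : w0 S = l'⁻¹ * (a * n * b) := by rw [← e]; group
      rw [e2]
      exact mul_mem (LL_le_Par i (inv_mem hl')) (mul_mem (mul_mem ha (LL_le_Par i hn)) hb)
    · exfalso
      apply hw0
      have e2 : w0 S = l⁻¹ * (a⁻¹ * n' * b⁻¹) := by rw [e]; group
      rw [e2]
      exact mul_mem (LL_le_Par i (inv_mem hl)) (mul_mem (mul_mem (inv_mem ha) (LL_le_Par i hn')) (inv_mem hb))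
    · have e2 : (l * w0 S)⁻¹ * (l' * w0 S) = (w0 S)⁻¹ * (l⁻¹ * l') * w0 S := by group
      rw [e2]
      exact w0_conj_LL' i (mul_mem (inv_mem hl) hl')

/-! ### the action on the simple root groups -/

theorem act_pair {ε c : ℤ} {w : G} (hε : ε = 1 ∨ ε = -1) (h : Act S ε (2 * c) w) (i : Fin 2) : ∃ j : ℤ, 1 ≤ j ∧ j ≤ 8 ∧
    (8 : ℤ) ∣ (2 * c + ε * kk i) - j ∧
    ((∀ e ∈ Xs S i, w * e * w⁻¹ ∈ S.XZ j) ∨ (∀ e ∈ Xo S i, w * e * w⁻¹ ∈ S.XZ j)) := by
  refine ⟨(2 * c + ε * kk i - 1) % 8 + 1, by omega, by omega, by omega, ?_⟩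
  by_cases h16 : (16 : ℤ) ∣ (2 * c + ε * kk i) - ((2 * c + ε * kk i - 1) % 8 + 1)
  · left
    intro e he
    have h1 := h.memX (j := kk i) he rfl
    rwa [XZ_mod h16] at h1
  · right
    intro e he
    have h1 := h.memX (j := ko i) he rfl
    have h2 : (16 : ℤ) ∣ (2 * c + ε * ko i) - ((2 * c + ε * kk i - 1) % 8 + 1) := by
      rcases consts i with ⟨-, -, h1, h2, -⟩ | ⟨-, -, h1, h2, -⟩ <;> rw [h1] at h16 ⊢ <;> rw [h2] <;>
        rcases hε with rfl | rfl <;> omega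
    rwa [XZ_mod h2] at h1

theorem mem_LL_of_act {ε c : ℤ} {w : G} (hε : ε = 1 ∨ ε = -1) (h : Act S ε (2 * c) w) (i : Fin 2)
    (h8 : (16 : ℤ) ∣ 2 * c - (if ε = 1 then 0 else rr i)) : w ∈ LL S i := by
  rcases hε with rfl | rfl
  · rw [if_pos rfl] at h8
    exact T_le_LL i (mem_T_iff.2 (h.mod h8))
  · rw [if_neg (by norm_num)] at h8
    have h1 : w * (nn S i)⁻¹ ∈ S.T := by
      rw [mem_T_iff]
      have h5 := h.mul ((nn_act S i).inv (Or.inr rfl))
      have e : (-1 : ℤ) * -1 = 1 := by norm_num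
      rw [e] at h5
      refine h5.mod ?_
      have e2 : 2 * c + -1 * -(-1 * rr i) - 0 = 2 * c - rr i := by ring
      rw [e2]; exact h8
    have e : w = w * (nn S i)⁻¹ * nn S i := by group
    rw [e]
    exact mul_mem (T_le_LL i h1) (nn_LL i)

theorem mem_NL {ε c : ℤ} {w : G} (hε : ε = 1 ∨ ε = -1) (h : Act S ε (2 * c) w) (i : Fin 2)
    (h8 : (8 : ℤ) ∣ (2 * c + ε * kk i) - kk i) : w ∈ NL S i := by
  have h8' : (8 : ℤ) ∣ 2 * c - (if ε = 1 then 0 else rr i) := by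
    rcases hε with rfl | rfl
    · rw [if_pos rfl]; omega
    · rw [if_neg (by norm_num)]
      rcases consts i with ⟨-, -, h1, -, h2⟩ | ⟨-, -, h1, -, h2⟩ <;> rw [h1] at h8 <;> rw [h2] <;> omega
  by_cases h16 : (16 : ℤ) ∣ 2 * c - (if ε = 1 then 0 else rr i)
  · exact Or.inl (mem_LL_of_act hε h i h16)
  · have h1 := h.mul (w0_inv_act (S := S))
    have e1 : 2 * c + ε * -8 = 2 * (c + ε * -4) := by ring
    rw [mul_one, e1] at h1
    have h2 := mem_LL_of_act hε h1 i (by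
      rcases hε with rfl | rfl <;> omega)
    exact Or.inr ⟨_, h2, by group⟩

theorem act_same {w : G} (hw : w ∈ NN S) (i : Fin 2) : w ∈ NL S i ∨ (∀ e ∈ Xs S i, w * e * w⁻¹ ∈ Vr S i) ∨
    (∀ e ∈ Xo S i, w * e * w⁻¹ ∈ Vr S i) := by
  obtain ⟨ε, c, hε, h⟩ := hw
  obtain ⟨j, h1, h2, h3, h4⟩ := act_pair hε h i
  by_cases h8 : (8 : ℤ) ∣ (2 * c + ε * kk i) - kk i
  · exact Or.inl (mem_NL hε h i h8)
  · right
    have h5 : S.XZ j ≤ Vr S i := by
      rw [Vr_eq]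
      refine X_le_J ?_ ?_ <;> rcases consts i with ⟨h9, h10, h11, -⟩ | ⟨h9, h10, h11, -⟩ <;>
        rw [h11] at h8 h3 <;> rcases hε with rfl | rfl <;> omega
    rcases h4 with h4 | h4
    · exact Or.inl fun e he => h5 (h4 e he)
    · exact Or.inr fun e he => h5 (h4 e he)

theorem act_other {w : G} (hw : w ∈ NN S) {i j : Fin 2} (hij : i ≠ j) : (∀ e ∈ Xs S i, w * e * w⁻¹ ∈ Vr S j) ∨
    (∀ e ∈ Xo S i, w * e * w⁻¹ ∈ Vr S j) := by
  obtain ⟨ε, c, hε, h⟩ := hw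
  obtain ⟨k, h1, h2, h3, h4⟩ := act_pair hε h i
  have h5 : S.XZ k ≤ Vr S j := by
    rw [Vr_eq]
    fin_cases i <;> fin_cases j
    · exact absurd rfl hij
    · refine X_le_J ?_ ?_
      · exact h1
      · change (8 : ℤ) ∣ (2 * c + ε * 1) - k at h3
        change k ≤ 7
        rcases hε with rfl | rfl <;> omega
    · refine X_le_J ?_ ?_
      · change (8 : ℤ) ∣ (2 * c + ε * 8) - k at h3
        change 2 ≤ k
        rcases hε with rfl | rfl <;> omega
      · exact h2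
    · exact absurd rfl hij
  rcases h4 with h4 | h4
  · exact Or.inl fun e he => h5 (h4 e he)
  · exact Or.inr fun e he => h5 (h4 e he)

theorem act_B {w : G} (hw : w ∈ NN S) (i : Fin 2) : (∀ e ∈ Xs S i, w * e * w⁻¹ ∈ UU S) ∨
    (∀ e ∈ Xo S i, w * e * w⁻¹ ∈ UU S) := by
  obtain ⟨ε, c, hε, h⟩ := hw
  obtain ⟨j, h1, h2, h3, h4⟩ := act_pair hε h i
  have h5 : S.XZ j ≤ UU S := X_le_J h1 h2
  rcases h4 with h4 | h4
  · exact Or.inl fun e he => h5 (h4 e he)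
  · exact Or.inr fun e he => h5 (h4 e he)

end

/-- Bruhat decomposition -/
theorem bruhat' (g : G) : ∃ b ∈ BB S, ∃ w ∈ NN S, ∃ b' ∈ BB S, g = b * w * b' := by
  obtain ⟨b, hb, w, hw, b', hb', e⟩ := Cfsg.Agent.H539.OF.bruhat S g
  exact ⟨b, U_le_BB S hb, w, NN_of_dih hw, b', U_le_BB S hb', e⟩

end Cfsg.Agent.H743.OF
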