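import Cfsg.Agent.H743.OF.Geo
import Cfsg.Agent.Characters.CCBasic

/-!
# S4884, the row `²F₄(Q)` (helper743): the packets

`ps_eq`, `ps_cusp`, `cusp_ne`, `cusp_eq`, `cuspG_ps`, `cuspG_cusp`, `exhaust`.
-/

set_option autoImplicit false
set_option linter.unusedSectionVars false

namespace Cfsg.Agent.H743.OF

open Cfsg Cfsg.Agent.SplitTwo Cfsg.Agent.SplitTwo.ZS Cfsg.Agent.TitsThree.RankTwoZ Cfsg.Agent.KFacts.TwF4
open Cfsg.Agent.KFacts.TwF4.Full Cfsg.Agent.KFacts.TwF4.SylU Cfsg.Agent.KFacts.TwF4.Inv Cfsg.Agent.KFacts.TwF4.Arc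
open Cfsg.Agent.SplitTwo.RootSysZ Subgroup Cfsg.Agent.H539.OF Cfsg.Agent.H743.GG.LVs Cfsg.Agent.H743.GG
open Cfsg.Agent.Characters

universe u

section Abstract

variable {G : Type*} [Group G]

/-- a character with a constituent that has `V`-fixed vectors -/
theorem sum_ne_zero [Finite G] {P V : Subgroup G} (hV : V ≤ P) {χ : G → ℂ} (hχ : IsCharacter G χ) {ψ₀ : P → ℂ}
    (hψ : IsIrrCharacter P ψ₀) [Fintype P] [Fintype V] (hne : classInner (χ ∘ P.subtype) ψ₀ ≠ 0)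
    (h0 : ∑ v : V, ψ₀ ⟨v, hV v.2⟩ ≠ 0) : ∑ v : V, χ v ≠ 0 := by
  classical
  have : Finite (IrrCharacter P) := Core.finite_irr
  have : Fintype (IrrCharacter P) := Fintype.ofFinite _
  obtain ⟨m, hm, hm'⟩ := exists_comb P hχ
  have hnat : ∀ ψ : IrrCharacter P, ∃ k : ℕ, ∑ u : V, (ψ : P → ℂ) ⟨u, hV u.2⟩ = (Nat.card V : ℂ) * k := by
    intro ψ
    obtain ⟨k, hk⟩ := Core.classInner_isNat (Core.isCharacter_comp (Subgroup.inclusion hV) (Core.isIrr_isCharacter ψ.2))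
      (Core.isIrr_isCharacter (Linear.isIrrCharacter_hom (1 : ↥V →* ℂˣ)))
    refine ⟨k, ?_⟩
    rw [← hk, Core.classInner_def, ← mul_assoc, mul_inv_cancel₀ Core.card_ne_zero_complex, one_mul]
    refine Finset.sum_congr rfl fun u _ => ?_
    simp
    rfl
  choose k hk using hnat
  have hU0 : (Nat.card V : ℂ) ≠ 0 := Core.card_ne_zero_complex
  have h2 : ∑ u : V, χ u = (Nat.card V : ℂ) * ∑ ψ : IrrCharacter P, ((m ψ * k ψ : ℕ) : ℂ) := by
    have h3 : ∀ u : V, χ u = ∑ ψ, (m ψ : ℂ) * (ψ : P → ℂ) ⟨u, hV u.2⟩ := fun u => hm ⟨u, hV u.2⟩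
    rw [Finset.sum_congr rfl fun u _ => h3 u, Finset.sum_comm, Finset.mul_sum]
    refine Finset.sum_congr rfl fun ψ _ => ?_
    rw [← Finset.mul_sum, hk ψ]
    push_cast
    ring
  rw [h2]
  refine mul_ne_zero hU0 fun h3 => ?_
  have h4 : (∑ ψ : IrrCharacter P, m ψ * k ψ) = 0 := by exact_mod_cast h3
  have h5 := (Finset.sum_eq_zero_iff.1 h4) ⟨ψ₀, hψ⟩ (Finset.mem_univ _)
  rcases Nat.mul_eq_zero.1 h5 with h6 | h6
  · apply hne
    have h7 : classInner (χ ∘ P.subtype) ψ₀ = (m ⟨_, hψ⟩ : ℂ) := hm' ⟨_, hψ⟩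
    rw [h7, h6, Nat.cast_zero]
  · apply h0
    have h7 : ∑ u : V, ψ₀ ⟨u, hV u.2⟩ = (Nat.card V : ℂ) * (k ⟨_, hψ⟩ : ℂ) := hk ⟨_, hψ⟩
    rw [h7, h6, Nat.cast_zero, mul_zero]

/-- fixed vectors of a larger group -/
theorem sum_ne_zero_mono [Finite G] {P V : Subgroup G} (hV : V ≤ P) {χ : G → ℂ} (hχ : IsCharacter G χ)
    [Fintype P] [Fintype V] (h0 : ∑ u : P, χ u ≠ 0) : ∑ v : V, χ v ≠ 0 := by
  refine sum_ne_zero hV hχ (Linear.isIrrCharacter_hom (1 : ↥P →* ℂˣ)) ?_ ?_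
  · rw [Core.classInner_def]
    refine mul_ne_zero (inv_ne_zero Core.card_ne_zero_complex) ?_
    have : ∑ g : P, (χ ∘ P.subtype) g * (starRingEnd ℂ) (((1 : ↥P →* ℂˣ) g : ℂˣ) : ℂ) = ∑ u : P, χ u :=
      Finset.sum_congr rfl fun u _ => by simp
    rw [this]
    exact h0
  · simp

end Abstract

variable {F : Type*} [Field F] [Finite F] {σ : F →+* F} {G : Type u} [Group G] (S : Full σ G)
  (hF : ∃ c : Fˣ, c ≠ 1)

variable {S}

/-! ### translation -/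

theorem ps_form {l : ↥(BB S) →* ℂˣ} (hl : Ps S l) : ∃ α : ↥S.T → ℂ, IsIrrCharacter _ α ∧
    (fun b : ↥(BB S) => (l b : ℂ)) = α ∘ (HB (S := S)).pr := by
  refine ⟨fun t => ((l.comp (Subgroup.inclusion (T_le_BB S))) t : ℂ), Linear.isIrrCharacter_hom _, ?_⟩
  funext b
  obtain ⟨t, ht, u, hu, hb⟩ := (HB (S := S)).mul b b.2
  have e1 : b = ⟨t, (HB (S := S)).Lle ht⟩ * ⟨u, (HB (S := S)).Vle hu⟩ := Subtype.ext hb
  rw [e1, map_mul, hl.triv ⟨u, _⟩ hu, mul_one, Function.comp_apply, map_mul, LV.pr_L _ ht, LV.pr_V _ hu, mul_one]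
  rfl

theorem ps_of {α : ↥S.T → ℂ} (hα : IsIrrCharacter _ α) : ∃ l : ↥(BB S) →* ℂˣ, Ps S l ∧
    (fun b : ↥(BB S) => (l b : ℂ)) = α ∘ (HB (S := S)).pr := by
  obtain ⟨f, rfl⟩ := CCBasic.exists_hom_of_comm (fun a b : ↥S.T => Subtype.ext (S.T_comm a.2 b.2)) hα
  refine ⟨f.comp (HB (S := S)).pr, ⟨fun u hu => ?_⟩, rfl⟩
  rw [MonoidHom.comp_apply]
  have : (HB (S := S)).pr u = 1 := LV.pr_V (HB (S := S)) hu
  rw [this, map_one]

theorem sum_Xo [Finite G] {i : Fin 2} {α : ↥(LL S i) → ℂ} (hα : IsIrrCharacter _ α) [Fintype ↥(Xs S i)]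
    [Fintype ↥(Xo S i)] (h0 : ∑ e : ↥(Xs S i), α ⟨e, Xs_le_LL i e.2⟩ = 0) :
    ∑ e : ↥(Xo S i), α ⟨e, Xo_le_LL i e.2⟩ = 0 := by
  rw [← h0]
  refine Fintype.sum_bijective (fun e : ↥(Xo S i) => (⟨nn S i * e * (nn S i)⁻¹, nn_conj_Xo i e.2⟩ : ↥(Xs S i))) ?_ _ _ ?_
  · constructor
    · intro a b hab
      have := congrArg Subtype.val hab
      simp only at this
      exact Subtype.ext (mul_left_cancel (mul_right_cancel this))
    · intro u
      refine ⟨⟨(nn S i)⁻¹ * u * nn S i, nn_conj_Xs' i u.2⟩, Subtype.ext ?_⟩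
      simp only
      group
  · intro e
    have h1 := Core.isIrr_isClassFunction hα ⟨e, Xo_le_LL i e.2⟩ ⟨nn S i, nn_LL i⟩
    rw [← h1]
    rfl

theorem cusp_form [Finite G] {i : Fin 2} {μ : ↥(Par S i) → ℂ} (hm : CuspP S i μ) : ∃ α : ↥(LL S i) → ℂ,
    IsIrrCharacter _ α ∧ μ = α ∘ (HL hF i).pr ∧ (∀ [Fintype ↥(Xs S i)], ∑ e : ↥(Xs S i), α ⟨e, Xs_le_LL i e.2⟩ = 0) ∧
    ∀ [Fintype ↥(Xo S i)], ∑ e : ↥(Xo S i), α ⟨e, Xo_le_LL i e.2⟩ = 0 := by
  have e0 : μ = (μ ∘ Subgroup.inclusion (LL_le_Par i)) ∘ (HL hF i).pr := by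
    funext b
    obtain ⟨t, ht, u, hu, hb⟩ := (HL hF i).mul (b : G) b.2
    have e1 : b = ⟨t, (HL hF i).Lle ht⟩ * ⟨u, (HL hF i).Vle hu⟩ := Subtype.ext hb
    rw [e1, hm.triv _ ⟨u, _⟩ hu, Function.comp_apply, map_mul, LV.pr_L _ ht, LV.pr_V _ hu, mul_one]
    rfl
  have hα : IsIrrCharacter _ (μ ∘ Subgroup.inclusion (LL_le_Par (S := S) i)) :=
    Cfsg.Agent.H641.Gow.isIrr_of_comp (HL hF i).pr (Core.isCharacter_comp _ (Core.isIrr_isCharacter hm.irr))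
      (by rw [← e0]; exact hm.irr)
  have h0 : ∀ [Fintype ↥(Xs S i)], ∑ e : ↥(Xs S i), (μ ∘ Subgroup.inclusion (LL_le_Par (S := S) i))
      ⟨e, Xs_le_LL i e.2⟩ = 0 := by
    intro _
    exact hm.cusp
  refine ⟨_, hα, e0, h0, ?_⟩
  intro _
  have : Fintype ↥(Xs S i) := Fintype.ofFinite _
  exact sum_Xo hα h0

theorem cusp_mk [Finite G] {i : Fin 2} {α : ↥(LL S i) → ℂ} (hα : IsIrrCharacter _ α)
    (h0 : ∀ [Fintype ↥(Xs S i)], ∑ e : ↥(Xs S i), α ⟨e, Xs_le_LL i e.2⟩ = 0) : CuspP S i (α ∘ (HL hF i).pr) where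
  irr := Core.isIrr_comp _ (HL hF i).pr_surjective hα
  triv := fun g v hv => by
    have : (HL hF i).pr v = 1 := LV.pr_V (HL hF i) hv
    rw [Function.comp_apply, map_mul, this, mul_one]
    rfl
  cusp := by
    intro _
    rw [← h0]
    refine Finset.sum_congr rfl fun e _ => ?_
    rw [Function.comp_apply]
    congr 1
    exact LV.pr_L (HL hF i) (Xs_le_LL i e.2)

/-! ### vanishing -/

section

variable [Fintype G]

theorem kill_other {i j : Fin 2} (hij : i ≠ j) {α : ↥(LL S i) → ℂ} {β : ↥(LL S j) → ℂ} (hα : IsIrrCharacter _ α)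
    (hβ : IsIrrCharacter _ β) (h1 : ∀ [Fintype ↥(Xs S i)], ∑ e : ↥(Xs S i), α ⟨e, Xs_le_LL i e.2⟩ = 0)
    (h2 : ∀ [Fintype ↥(Xo S i)], ∑ e : ↥(Xo S i), α ⟨e, Xo_le_LL i e.2⟩ = 0) [Fintype ↥(Par S i)] (x : G) :
    twist₂ (Par S i) (Par S j) (α ∘ (HL hF i).pr) (β ∘ (HL hF j).pr) x = 0 := by
  have : Fintype ↥(Xs S i) := Fintype.ofFinite _
  have : Fintype ↥(Xo S i) := Fintype.ofFinite _
  obtain ⟨b, hb, w, hw, b', hb', e⟩ := bruhat' (S := S) x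
  have hα' := Core.isIrr_isCharacter hα
  have hβ' := Core.isIrr_isCharacter hβ
  rcases act_other (inv_mem hw) hij with h | h
  · refine kill_left (HL hF i) (HL hF j) hα' hβ' (Xs_le_LL i) h1 (BB_le_Par S i hb) (BB_le_Par S j hb') e fun y hy => ?_
    have := h y hy
    rwa [inv_inv] at this
  · refine kill_left (HL hF i) (HL hF j) hα' hβ' (Xo_le_LL i) h2 (BB_le_Par S i hb) (BB_le_Par S j hb') e fun y hy => ?_
    have := h y hy
    rwa [inv_inv] at this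

theorem kill_same {i : Fin 2} {α β : ↥(LL S i) → ℂ} (hα : IsIrrCharacter _ α)
    (hβ : IsIrrCharacter _ β) (h1 : ∀ [Fintype ↥(Xs S i)], ∑ e : ↥(Xs S i), α ⟨e, Xs_le_LL i e.2⟩ = 0)
    (h2 : ∀ [Fintype ↥(Xo S i)], ∑ e : ↥(Xo S i), α ⟨e, Xo_le_LL i e.2⟩ = 0) [Fintype ↥(Par S i)] (x : G)
    (hx : ∀ n ∈ NL S i, ¬ DC₂ (Par S i) (Par S i) n x) :
    twist₂ (Par S i) (Par S i) (α ∘ (HL hF i).pr) (β ∘ (HL hF i).pr) x = 0 := by
  have : Fintype ↥(Xs S i) := Fintype.ofFinite _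
  have : Fintype ↥(Xo S i) := Fintype.ofFinite _
  obtain ⟨b, hb, w, hw, b', hb', e⟩ := bruhat' (S := S) x
  have hα' := Core.isIrr_isCharacter hα
  have hβ' := Core.isIrr_isCharacter hβ
  rcases act_same (inv_mem hw) i with h | h | h
  · exact absurd ⟨b, BB_le_Par S i hb, b', BB_le_Par S i hb', e⟩ (hx w (inv_mem_iff.1 h))
  · refine kill_left (HL hF i) (HL hF i) hα' hβ' (Xs_le_LL i) h1 (BB_le_Par S i hb) (BB_le_Par S i hb') e fun y hy => ?_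
    have := h y hy
    rwa [inv_inv] at this
  · refine kill_left (HL hF i) (HL hF i) hα' hβ' (Xo_le_LL i) h2 (BB_le_Par S i hb) (BB_le_Par S i hb') e fun y hy => ?_
    have := h y hy
    rwa [inv_inv] at this

theorem kill_B {i : Fin 2} {α : ↥S.T → ℂ} {β : ↥(LL S i) → ℂ} (hα : IsIrrCharacter _ α)
    (hβ : IsIrrCharacter _ β) (h1 : ∀ [Fintype ↥(Xs S i)], ∑ e : ↥(Xs S i), β ⟨e, Xs_le_LL i e.2⟩ = 0)
    (h2 : ∀ [Fintype ↥(Xo S i)], ∑ e : ↥(Xo S i), β ⟨e, Xo_le_LL i e.2⟩ = 0) [Fintype ↥(BB S)] (x : G) :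
    twist₂ (BB S) (Par S i) (α ∘ (HB (S := S)).pr) (β ∘ (HL hF i).pr) x = 0 := by
  have : Fintype ↥(Xs S i) := Fintype.ofFinite _
  have : Fintype ↥(Xo S i) := Fintype.ofFinite _
  obtain ⟨b, hb, w, hw, b', hb', e⟩ := bruhat' (S := S) x
  have hα' := Core.isIrr_isCharacter hα
  have hβ' := Core.isIrr_isCharacter hβ
  rcases act_B hw i with h | h
  · exact kill_right (HB (S := S)) (HL hF i) hα' hβ' (Xs_le_LL i) h1 hb (BB_le_Par S i hb') e h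
  · exact kill_right (HB (S := S)) (HL hF i) hα' hβ' (Xo_le_LL i) h2 hb (BB_le_Par S i hb') e h

/-! ### the packets -/

include hF in
/-- **(1)** -/
theorem ps_eq {l l' : ↥(BB S) →* ℂˣ} (hl : Ps S l) (hl' : Ps S l') (h : classInner (RB S l) (RB S l') ≠ 0) :
    RB S l = RB S l' := by
  obtain ⟨α, hα, e⟩ := ps_form hl
  obtain ⟨α', hα', e'⟩ := ps_form hl'
  have e1 : RB S l = HI (HB (S := S)) α := by unfold RB HI; rw [e]
  have e2 : RB S l' = HI (HB (S := S)) α' := by unfold RB HI; rw [e']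
  rw [e1, e2] at h ⊢
  refine HI_eq_of_inner (HB (S := S)) (repB hF) hα hα' ?_ h
  intro γ _ δ _ x hx _
  obtain ⟨b, hb, w, hw, b', hb', e⟩ := bruhat' (S := S) x
  exact absurd ⟨b, hb, b', hb', e⟩ (hx w hw)

include hF in
/-- **(2)** -/
theorem ps_cusp {i : Fin 2} {l : ↥(BB S) →* ℂˣ} {μ : ↥(Par S i) → ℂ} (hl : Ps S l) (hm : CuspP S i μ) :
    classInner (RB S l) (RP S i μ) = 0 := by
  obtain ⟨α, hα, e⟩ := ps_form hl
  obtain ⟨β, hβ, e', h1, h2⟩ := cusp_form hF hm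
  have e1 : RB S l = HI (HB (S := S)) α := by unfold RB HI; rw [e]
  have e2 : RP S i μ = HI (HL hF i) β := by unfold RP HI; rw [e']
  rw [e1, e2]
  have : Fintype ↥(BB S) := Fintype.ofFinite _
  exact inner_zero _ _ fun x => kill_B hF hα hβ h1 h2 x

include hF in
/-- **(3)** -/
theorem cusp_ne {i j : Fin 2} (hij : i ≠ j) {μ : ↥(Par S i) → ℂ} {ν : ↥(Par S j) → ℂ} (hm : CuspP S i μ)
    (hn : CuspP S j ν) : classInner (RP S i μ) (RP S j ν) = 0 := by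
  obtain ⟨α, hα, e, h1, h2⟩ := cusp_form hF hm
  obtain ⟨β, hβ, e', -, -⟩ := cusp_form hF hn
  have e1 : RP S i μ = HI (HL hF i) α := by unfold RP HI; rw [e]
  have e2 : RP S j ν = HI (HL hF j) β := by unfold RP HI; rw [e']
  rw [e1, e2]
  have : Fintype ↥(Par S i) := Fintype.ofFinite _
  exact inner_zero _ _ fun x => kill_other hF hij hα hβ h1 h2 x

include hF in
/-- **(4)** -/
theorem cusp_eq {i : Fin 2} {μ μ' : ↥(Par S i) → ℂ} (hm : CuspP S i μ) (hm' : CuspP S i μ')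
    (h : classInner (RP S i μ) (RP S i μ') ≠ 0) : RP S i μ = RP S i μ' := by
  obtain ⟨α, hα, e, h1, h2⟩ := cusp_form hF hm
  obtain ⟨β, hβ, e', h3, h4⟩ := cusp_form hF hm'
  have e1 : RP S i μ = HI (HL hF i) α := by unfold RP HI; rw [e]
  have e2 : RP S i μ' = HI (HL hF i) β := by unfold RP HI; rw [e']
  rw [e1, e2] at h ⊢
  refine HI_eq_of_inner (HL hF i) (repL hF i) hα hβ ?_ h
  rintro γ (rfl | rfl) δ (rfl | rfl) x hx _
  · exact kill_same hF hα hα h1 h2 x hx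
  · exact kill_same hF hα hβ h1 h2 x hx
  · exact kill_same hF hβ hα h3 h4 x hx
  · exact kill_same hF hβ hβ h3 h4 x hx

/-! ### cuspidal characters of `G` -/

theorem Vr_sum_ne {χ : G → ℂ} (hχ : IsCharacter G χ) (i : Fin 2) [Fintype ↥(UU S)] [Fintype ↥(Vr S i)]
    (h : ∑ u : ↥(UU S), χ u ≠ 0) : ∑ v : ↥(Vr S i), χ v ≠ 0 :=
  sum_ne_zero_mono (Vr_le_U S i) hχ h

/-- **cuspidal characters and the principal series** -/
theorem cuspG_ps {χ : G → ℂ} (hx : CuspG S χ) {l : ↥(BB S) →* ℂˣ} (hl : Ps S l) : classInner (RB S l) χ = 0 := by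
  by_contra hne
  obtain ⟨α, hα, e⟩ := ps_form hl
  have e1 : RB S l = HI (HB (S := S)) α := by unfold RB HI; rw [e]
  have : Fintype ↥(BB S) := Fintype.ofFinite _
  have : Fintype ↥(UU S) := Fintype.ofFinite _
  have : Fintype ↥(Vr S 0) := Fintype.ofFinite _
  have hαP : IsIrrCharacter _ (α ∘ (HB (S := S)).pr) := Core.isIrr_comp _ (HB (S := S)).pr_surjective hα
  rw [e1, frob (HB (S := S)) hα hx.irr] at hne
  have h1 := sum_ne_zero (V := Vr S 0) ((Vr_le_U S 0).trans (U_le_BB S)) (Core.isIrr_isCharacter hx.irr) hαP hne ?_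
  · exact h1 (hx.cusp 0)
  · have h2 : ∀ v : ↥(Vr S 0), (α ∘ (HB (S := S)).pr) ⟨v, ((Vr_le_U S 0).trans (U_le_BB S)) v.2⟩ = α 1 := by
      intro v
      rw [Function.comp_apply]
      congr 1
      exact LV.pr_V (HB (S := S)) (Vr_le_U S 0 v.2)
    rw [Finset.sum_congr rfl fun v _ => h2 v, Finset.sum_const, nsmul_eq_mul, Finset.card_univ]
    refine mul_ne_zero (by exact_mod_cast Fintype.card_ne_zero) ?_
    exact Core.isIrr_apply_one_ne_zero hα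

include hF in
/-- **cuspidal characters and the intermediate series** -/
theorem cuspG_cusp {χ : G → ℂ} (hx : CuspG S χ) {i : Fin 2} {μ : ↥(Par S i) → ℂ} (hm : CuspP S i μ) :
    classInner (RP S i μ) χ = 0 := by
  by_contra hne
  obtain ⟨α, hα, e, -, -⟩ := cusp_form hF hm
  have e1 : RP S i μ = HI (HL hF i) α := by unfold RP HI; rw [e]
  have : Fintype ↥(Par S i) := Fintype.ofFinite _
  have : Fintype ↥(Vr S i) := Fintype.ofFinite _
  have hαP : IsIrrCharacter _ (α ∘ (HL hF i).pr) := Core.isIrr_comp _ (HL hF i).pr_surjective hα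
  rw [e1, frob (HL hF i) hα hx.irr] at hne
  have h1 := sum_ne_zero (V := Vr S i) (Vr_le_Par S i) (Core.isIrr_isCharacter hx.irr) hαP hne ?_
  · exact h1 (hx.cusp i)
  · have h2 : ∀ v : ↥(Vr S i), (α ∘ (HL hF i).pr) ⟨v, (Vr_le_Par S i) v.2⟩ = α 1 := by
      intro v
      rw [Function.comp_apply]
      congr 1
      exact LV.pr_V (HL hF i) v.2
    rw [Finset.sum_congr rfl fun v _ => h2 v, Finset.sum_const, nsmul_eq_mul, Finset.card_univ]
    refine mul_ne_zero (by exact_mod_cast Fintype.card_ne_zero) ?_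
    exact Core.isIrr_apply_one_ne_zero hα

include hF in
/-- **(5)** -/
theorem exhaust {χ : G → ℂ} (hχ : IsIrrCharacter G χ) :
    (∃ l : ↥(BB S) →* ℂˣ, Ps S l ∧ classInner (RB S l) χ ≠ 0) ∨
      (∃ (i : Fin 2) (μ : ↥(Par S i) → ℂ), CuspP S i μ ∧ classInner (RP S i μ) χ ≠ 0) ∨ CuspG S χ := by
  classical
  have : Fintype ↥(UU S) := Fintype.ofFinite _
  by_cases h0 : ∑ u : ↥(UU S), χ u = 0
  · right
    by_cases h1 : ∃ i, ∃ _ : Fintype ↥(Vr S i), ∑ v : ↥(Vr S i), χ v ≠ 0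
    · left
      obtain ⟨i, _, hi⟩ := h1
      obtain ⟨α, hα, hne⟩ := exists_irr (HL hF i) hχ hi
      refine ⟨i, _, cusp_mk hF hα ?_, hne⟩
      intro _
      exact cusp_of (HL hF i) (HX i) (Xs_le_LL i) hχ hα hne h0
    · right
      refine ⟨hχ, fun i _ => ?_⟩
      by_contra hne
      exact h1 ⟨i, _, hne⟩
  · left
    obtain ⟨α, hα, hne⟩ := exists_irr (HB (S := S)) hχ h0
    obtain ⟨l, hl, e⟩ := ps_of hα
    refine ⟨l, hl, ?_⟩
    have e1 : RB S l = HI (HB (S := S)) α := by unfold RB HI; rw [e]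
    rw [e1]
    exact hne

end

end Cfsg.Agent.H743.OF
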